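import Cfsg.Agent.Lib.Fischer.Thm.List
import Cfsg.Agent.Lib.Linear.SymplecticGroup

/-!
# The neighbours of a member as the non-zero vectors of a symplectic space
-/

set_option autoImplicit false
set_option linter.unusedSectionVars false

namespace Cfsg.Lib.Fischer.Thm.Sp

open Module Cfsg Cfsg.Lib.Fischer Cfsg.Lib.Fischer.Relations Cfsg.Lib.Linear.Symp
open scoped Matrix

theorem two_cases : ∀ a : ZMod 2, a = 0 ∨ a = 1 := by decide

/-- The symplectic space of dimension `2 m`. -/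
abbrev U (m : ℕ) : Type := Fin m ⊕ Fin m → ZMod 2

/-- The transvection of a vector. -/
noncomputable def tvm {m : ℕ} (v : U m) : Matrix.symplecticGroup (Fin m) (ZMod 2) :=
  ⟨Cfsg.sympTransvection m v 1, sympTransvection_mem v 1⟩

variable {m : ℕ}

theorem tvm_act (v x : U m) :
    ((tvm v : Matrix.symplecticGroup (Fin m) (ZMod 2)) : Matrix _ _ (ZMod 2)) *ᵥ x =
      x + spB m (ZMod 2) x v • v := by
  rw [tvm, sympTransvection_mulVec, one_mul]

theorem sp_ext {g h : Matrix.symplecticGroup (Fin m) (ZMod 2)}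
    (H : ∀ x, (g : Matrix (Fin m ⊕ Fin m) (Fin m ⊕ Fin m) (ZMod 2)) *ᵥ x =
      (h : Matrix (Fin m ⊕ Fin m) (Fin m ⊕ Fin m) (ZMod 2)) *ᵥ x) : g = h :=
  Subtype.ext (Matrix.toLin'.injective (LinearMap.ext fun x => by simpa using H x))

theorem spB_symm (u v : U m) : spB m (ZMod 2) u v = spB m (ZMod 2) v u := by
  rw [← LinearMap.IsAlt.neg (spB_isAlt m (ZMod 2)) u v, CharTwo.neg_eq]

/-- An element of the symplectic group moving only along a line is a transvection. -/
theorem exists_tvm {g : Matrix.symplecticGroup (Fin m) (ZMod 2)}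
    (h : ((g : Matrix (Fin m ⊕ Fin m) (Fin m ⊕ Fin m) (ZMod 2)) - 1).rank = 1) :
    ∃ v : U m, v ≠ 0 ∧ g = tvm v := by
  set T : U m →ₗ[ZMod 2] U m :=
    Matrix.mulVecLin ((g : Matrix (Fin m ⊕ Fin m) (Fin m ⊕ Fin m) (ZMod 2)) - 1) with hT
  have hTx : ∀ x, (g : Matrix _ _ (ZMod 2)) *ᵥ x = x + T x := fun x => by
    rw [hT, Matrix.mulVecLin_apply, Matrix.sub_mulVec, Matrix.one_mulVec]
    abel
  change finrank (ZMod 2) (LinearMap.range T) = 1 at h
  obtain ⟨⟨a, ha⟩, ha0, hspan⟩ := finrank_eq_one_iff'.mp h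
  have ha0' : a ≠ 0 := fun e => ha0 (Subtype.ext e)
  choose f hf using fun x => hspan ⟨T x, LinearMap.mem_range_self T x⟩
  have hfx : ∀ x, T x = f x • a := fun x => (congrArg Subtype.val (hf x)).symm
  have hiso : ∀ x y, f x * spB m (ZMod 2) a y + f y * spB m (ZMod 2) x a = 0 := fun x y => by
    have h2 := (mem_symplecticGroup_iff _).1 g.2 x y
    rw [hTx, hTx, hfx, hfx] at h2
    simp only [map_add, map_smul, LinearMap.add_apply, LinearMap.smul_apply,
      (spB_isAlt m (ZMod 2)).self_eq_zero, smul_eq_mul, mul_zero, add_zero] at h2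
    linear_combination h2
  obtain ⟨y, hy⟩ : ∃ y, spB m (ZMod 2) a y = 1 := by
    obtain ⟨y, hy⟩ := exists_apply_ne_zero (spB_nondegenerate m (ZMod 2)) ha0'
    exact ⟨y, by rw [spB_symm]; exact (two_cases _).resolve_left hy⟩
  have hf' : ∀ x, f x = f y * spB m (ZMod 2) x a := fun x => by
    have := hiso x y
    rw [hy, mul_one] at this
    exact CharTwo.add_eq_zero.1 this
  have hfy : f y = 1 := (two_cases _).resolve_left fun h0 => by
    obtain ⟨z, hz⟩ := ha
    exact ha0' (by rw [← hz, hfx, hf' z, h0, zero_mul, zero_smul])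
  exact ⟨a, ha0', sp_ext fun x => by rw [tvm_act, hTx, hfx, hf' x, hfy, one_mul]⟩

theorem tvm_rank {v : U m} (hv : v ≠ 0) :
    (((tvm v : Matrix.symplecticGroup (Fin m) (ZMod 2)) : Matrix (Fin m ⊕ Fin m) (Fin m ⊕ Fin m) (ZMod 2)) - 1).rank = 1 := by
  set T : U m →ₗ[ZMod 2] U m := Matrix.mulVecLin
    (((tvm v : Matrix.symplecticGroup (Fin m) (ZMod 2)) : Matrix (Fin m ⊕ Fin m) (Fin m ⊕ Fin m) (ZMod 2)) - 1) with hT
  show finrank (ZMod 2) (LinearMap.range T) = 1
  have hTv : ∀ x, T x = spB m (ZMod 2) x v • v := fun x => by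
    rw [hT, Matrix.mulVecLin_apply, Matrix.sub_mulVec, Matrix.one_mulVec, tvm_act, add_sub_cancel_left]
  obtain ⟨y, hy⟩ := exists_apply_ne_zero (spB_nondegenerate m (ZMod 2)) hv
  have hr : LinearMap.range T = Submodule.span (ZMod 2) {v} := by
    apply le_antisymm
    · rintro _ ⟨x, rfl⟩
      rw [hTv]
      exact Submodule.smul_mem _ _ (Submodule.mem_span_singleton_self v)
    · rw [Submodule.span_singleton_le_iff_mem]
      exact ⟨y, by rw [hTv, (two_cases _).resolve_left hy, one_smul]⟩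
  rw [hr, finrank_span_singleton hv]

theorem tvm_inj {v w : U m} (hv : v ≠ 0) (h : tvm v = tvm w) : v = w := by
  obtain ⟨y, hy⟩ := exists_apply_ne_zero (spB_nondegenerate m (ZMod 2)) hv
  have e := tvm_act v y
  rw [h, tvm_act, (two_cases _).resolve_left hy, one_smul] at e
  rcases two_cases (spB m (ZMod 2) y w) with h0 | h0 <;> rw [h0] at e
  · rw [zero_smul] at e; exact absurd (add_left_cancel e).symm hv
  · rw [one_smul] at e; exact (add_left_cancel e).symm

theorem tvm_conj (v w : U m) : tvm v * tvm w * tvm v = tvm (w + spB m (ZMod 2) w v • v) := by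
  refine sp_ext fun x => ?_
  simp only [Submonoid.coe_mul, ← Matrix.mulVec_mulVec, tvm_act, map_add, map_smul, LinearMap.add_apply,
    LinearMap.smul_apply, (spB_isAlt m (ZMod 2)).self_eq_zero, smul_eq_mul, mul_zero, add_zero, spB_symm v w]
  rcases two_cases (spB m (ZMod 2) x v) with h1 | h1 <;>
    rcases two_cases (spB m (ZMod 2) x w) with h2 | h2 <;>
    rcases two_cases (spB m (ZMod 2) w v) with h3 | h3 <;>
    simp [h1, h2, h3, add_assoc, CharTwo.add_self_eq_zero] <;>
    (funext i; rcases two_cases (v i) with ha | ha <;> rcases two_cases (w i) with hb | hb <;>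
      simp [ha, hb, CharTwo.add_self_eq_zero])

theorem tvm_sq (v : U m) : tvm v * tvm v = 1 := by
  refine sp_ext fun x => ?_
  simp only [Submonoid.coe_mul, ← Matrix.mulVec_mulVec, tvm_act, map_add, map_smul, LinearMap.add_apply,
    LinearMap.smul_apply, (spB_isAlt m (ZMod 2)).self_eq_zero, smul_eq_mul, mul_zero, add_zero,
    Submonoid.coe_one, Matrix.one_mulVec, add_assoc, ← add_smul, CharTwo.add_self_eq_zero, zero_smul, add_zero]

theorem tvm_commute {v w : U m} (hv : v ≠ 0) (hw : w ≠ 0) :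
    Commute (tvm v) (tvm w) ↔ spB m (ZMod 2) v w = 0 := by
  have e : Commute (tvm v) (tvm w) ↔ tvm v * tvm w * tvm v = tvm w := by
    constructor
    · intro h; rw [h.eq, mul_assoc, tvm_sq, mul_one]
    · intro h
      show tvm v * tvm w = tvm w * tvm v
      conv_rhs => rw [← h]
      rw [mul_assoc, tvm_sq, mul_one]
  rw [e, tvm_conj, spB_symm v w]
  constructor
  · intro h
    have := tvm_inj hw h.symm
    rcases two_cases (spB m (ZMod 2) w v) with h0 | h0
    · exact h0
    · rw [h0, one_smul, left_eq_add] at this; exact absurd this hv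
  · intro h; rw [h, zero_smul, add_zero]

variable {G : Type*} [Group G] [Finite G] {D : Set G}

/-- The neighbours of `x` coordinatised by the non-zero vectors. -/
structure Chart (D : Set G) (x : G) (m : ℕ) where
  φ : G → U m
  ne : ∀ y ∈ perp D x, φ y ≠ 0
  inj : Set.InjOn φ (perp D x)
  surj : ∀ u : U m, u ≠ 0 → ∃ y ∈ perp D x, φ y = u
  comm : ∀ a ∈ perp D x, ∀ b ∈ perp D x, (Commute a b ↔ spB m (ZMod 2) (φ a) (φ b) = 0)
  add : ∀ a ∈ perp D x, ∀ b ∈ perp D x, ¬ Commute a b → φ (cj a b) = φ a + φ b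

/-- A symplectic neighbourhood class gives a chart. -/
theorem exists_chart (hF : IsFischer D) {x : G} (hx : x ∈ D) (h : IsSp (Loc G D x) (locSet G D x) m) :
    Nonempty (Chart D x m) := by
  classical
  obtain ⟨e, he⟩ := h
  have hD := hF.toTrans
  have hS : perp D x ⊆ D := fun _ h => h.1
  have hnc : ∀ a ∈ perp D x, ∃ b ∈ perp D x, ¬ Commute a b := fun a ha =>
    exists_perp_noncommute hD (fun a ha b hb h => eq_of_commute_iff hF (a := a) (b := b) ha hb h) hx ha
  have hex : ∀ y, ∃ v : U m, ∀ hy : y ∈ perp D x, v ≠ 0 ∧ e (bar hy) = tvm v := fun y => by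
    by_cases hy : y ∈ perp D x
    · have hm : e (bar hy) ∈ e '' locSet G D x := ⟨_, bar_mem hy, rfl⟩
      rw [he] at hm
      obtain ⟨v, hv, hv'⟩ := exists_tvm hm
      exact ⟨v, fun _ => ⟨hv, hv'⟩⟩
    · exact ⟨0, fun h => absurd h hy⟩
  choose φ hφ using hex
  have hcomm : ∀ a ∈ perp D x, ∀ b ∈ perp D x, (Commute a b ↔ spB m (ZMod 2) (φ a) (φ b) = 0) := by
    intro a ha b hb
    rw [← tvm_commute (hφ a ha).1 (hφ b hb).1, ← (hφ a ha).2, ← (hφ b hb).2, ← bar_commute hD hS ha hb]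
    exact ⟨fun h => h.map e.toMonoidHom, fun h => e.injective (by rw [map_mul, map_mul]; exact h)⟩
  refine ⟨⟨φ, fun y hy => (hφ y hy).1, fun a ha b hb hab => bar_inj hD hS hnc ha hb (e.injective ?_),
    fun u hu => ?_, hcomm, fun a ha b hb hab => ?_⟩⟩
  · rw [(hφ a ha).2, (hφ b hb).2, hab]
  · have hm : tvm u ∈ e '' locSet G D x := by rw [he]; exact tvm_rank hu
    obtain ⟨z, hz, hzu⟩ := hm
    obtain ⟨y, hy, rfl⟩ := exists_bar hz
    exact ⟨y, hy, (tvm_inj (hφ y hy).1 ((hφ y hy).2.symm.trans hzu))⟩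
  · have hab' : cj a b ∈ perp D x := (cj_mem_perp hD hx (Set.mem_insert_of_mem _ ha) hb).1
    have h1 : spB m (ZMod 2) (φ b) (φ a) = 1 := (two_cases _).resolve_left fun h0 =>
      hab ((hcomm b hb a ha).2 h0).symm
    have e1 : bar hab' = bar ha * bar hb * bar ha := rfl
    refine tvm_inj (hφ _ hab').1 ?_
    rw [← (hφ _ hab').2, e1, map_mul, map_mul, (hφ a ha).2, (hφ b hb).2, tvm_conj, h1, one_smul, add_comm]

end Cfsg.Lib.Fischer.Thm.Sp
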