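import Cfsg.Agent.Lib.Fischer.Thm.Counts
import Cfsg.Agent.Lib.Fischer.Thm.Sp.Chart

/-!
# A symplectic neighbourhood makes the non-commuting indicators add along lines

If `t = 2^(2m-1) - μ`, squaring character sums over the common neighbours gives `μ + t² ≤ 2^(2m)`, the
equation of the parameters makes `μ` divide `t (2t - 1)`, and together they leave `t² = 2^(2m-2)`.
-/

set_option autoImplicit false
set_option linter.unusedSectionVars false
set_option linter.style.haveILetI false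

namespace Cfsg.Lib.Fischer.Thm.Sp

open Module Cfsg Cfsg.Lib.Fischer Cfsg.Lib.Fischer.Polar Cfsg.Lib.Linear.Symp

theorem odd_dvd_three {M : ℤ} {k : ℕ} (hM : M = 2 ^ k) {a : ℤ} (ha : Odd a) (h : a ∣ 3 * M ^ 2) : a ∣ 3 := by
  refine (IsCoprime.dvd_of_dvd_mul_right ?_ h)
  rw [hM]
  refine IsCoprime.pow_right (IsCoprime.pow_right ?_)
  obtain ⟨s, rfl⟩ := ha
  exact ⟨1, -s, by ring⟩

/-- The arithmetic: `H = 2 M²`, `μ = H - t`. -/
theorem arith {k : ℕ} (hk : 1 ≤ k) {M μ l t : ℤ} (hM : M = 2 ^ k) (hμ : μ = 2 * M ^ 2 - t) (hpos : 0 < μ)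
    (heq : μ * l = (4 * M ^ 2 - 1) * (2 * M ^ 2)) (hlow : 2 * (4 * M ^ 2) ≤ l + 2 * μ)
    (hc : μ + t ^ 2 ≤ 4 * M ^ 2) (he : Even μ) : l + 2 * μ = 2 * (4 * M ^ 2) := by
  have hM2 : 2 ≤ M := by
    rw [hM]
    calc (2 : ℤ) = 2 ^ 1 := (pow_one _).symm
      _ ≤ 2 ^ k := pow_le_pow_right₀ (by norm_num) hk
  suffices ht : t ^ 2 = M ^ 2 by
    have h1 : μ * (l + 2 * μ - 2 * (4 * M ^ 2)) = 0 := by
      have : μ * (l + 2 * μ - 2 * (4 * M ^ 2)) = μ * l + 2 * μ ^ 2 - 8 * M ^ 2 * μ := by ring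
      rw [this, heq, hμ]
      linear_combination 2 * ht
    have := (mul_eq_zero.1 h1).resolve_left hpos.ne'
    linarith
  have ht1 : M ^ 2 ≤ t ^ 2 := by
    have h1 : 0 ≤ μ * (l + 2 * μ - 2 * (4 * M ^ 2)) := mul_nonneg hpos.le (by linarith)
    have h2 : μ * (l + 2 * μ - 2 * (4 * M ^ 2)) = 2 * (t ^ 2 - M ^ 2) := by
      have : μ * (l + 2 * μ - 2 * (4 * M ^ 2)) = μ * l + 2 * μ ^ 2 - 8 * M ^ 2 * μ := by ring
      rw [this, heq, hμ]
      ring
    linarith
  have ht2 : t ^ 2 - t ≤ 2 * M ^ 2 := by linarith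
  obtain ⟨j, hj⟩ : μ ∣ t * (2 * t - 1) := by
    refine ⟨l - 2 * μ - 4 * t + 1, ?_⟩
    have h0 : μ * l = (4 * M ^ 2 - 1) * (μ + t) := by rw [heq, hμ]; ring
    have h4 : (4 : ℤ) * M ^ 2 = 2 * μ + 2 * t := by rw [hμ]; ring
    linear_combination (-1 : ℤ) * h0 - (μ + t) * h4
  have ht0 : t ≠ 0 := fun e => by rw [e] at ht1; nlinarith
  have hjpos : 0 < j := by
    have h1 : 0 < t * (2 * t - 1) := by
      rcases lt_or_gt_of_ne ht0 with h | h
      · exact mul_pos_of_neg_of_neg h (by linarith)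
      · exact mul_pos h (by linarith)
    rw [hj] at h1
    exact pos_of_mul_pos_right h1 hpos.le
  have h5 : 5 * t < 4 * M ^ 2 := by
    by_contra h
    push Not at h
    have h4 : 4 ≤ t := by nlinarith
    nlinarith [mul_le_mul_of_nonneg_left h4 (show (0 : ℤ) ≤ t by linarith)]
  have hj4 : j < 4 := by
    by_contra h
    push Not at h
    nlinarith
  have hte : Even t := by
    rw [hμ] at he
    exact (Int.even_sub.1 he).1 (even_two_mul _)
  interval_cases j
  · rw [hμ] at hj; linarith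
  · exfalso
    obtain ⟨s, rfl⟩ := hte
    have h1 : s * (4 * s + 1) = 2 * M ^ 2 := by rw [hμ] at hj; linarith
    have h2 : (4 * s + 1) ∣ 3 * M ^ 2 * 2 := ⟨3 * s, by rw [mul_comm (4 * s + 1)]; linear_combination (-3 : ℤ) * h1⟩
    have hodd : Odd (4 * s + 1) := ⟨2 * s, by ring⟩
    have h3 : (4 * s + 1) ∣ 3 := by
      refine odd_dvd_three hM hodd ?_
      refine (IsCoprime.dvd_of_dvd_mul_right ?_ h2)
      exact ⟨1, -2 * s, by ring⟩
    have hle := Int.le_of_dvd (by norm_num) h3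
    have hge := Int.le_of_dvd (by norm_num) (neg_dvd.2 h3)
    have : s = 0 ∨ s = -1 := by omega
    rcases this with rfl | rfl <;> nlinarith
  · exfalso
    have h1 : t * (t + 1) = 3 * M ^ 2 := by rw [hμ] at hj; linarith
    have h3 : (t + 1) ∣ 3 :=
      odd_dvd_three hM (hte.add_one) ⟨t, by rw [mul_comm (t + 1)]; linarith⟩
    have hle := Int.le_of_dvd (by norm_num) h3
    have hge := Int.le_of_dvd (by norm_num) (neg_dvd.2 h3)
    have hlo : -4 ≤ t := by linarith
    have hhi : t ≤ 2 := by linarith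
    interval_cases t <;> nlinarith

variable {m : ℕ}

/-- The sign of a bit. -/
def sgn (a : ZMod 2) : ℤ := if a = 0 then 1 else -1

theorem sgn_add : ∀ a b : ZMod 2, sgn (a + b) = sgn a * sgn b := by decide

theorem sgn_sum {v : U m} : ∑ u : U m, sgn (spB m (ZMod 2) u v) = if v = 0 then (2 : ℤ) ^ (2 * m) else 0 := by
  split_ifs with hv
  · subst hv
    simp [sgn, two_mul, pow_add]
  · obtain ⟨y, hy⟩ := exists_apply_ne_zero (spB_nondegenerate m (ZMod 2)) hv
    have h := Fintype.sum_equiv (Equiv.addRight y) (fun u : U m => sgn (spB m (ZMod 2) (u + y) v))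
      (fun u => sgn (spB m (ZMod 2) u v)) fun u => rfl
    simp only [map_add, LinearMap.add_apply, sgn_add, (two_cases _).resolve_left hy] at h
    rw [← Finset.sum_mul] at h
    simp only [show sgn 1 = -1 from rfl] at h
    linarith

theorem card_U : (Fintype.card (U m) : ℤ) = 2 ^ (2 * m) := by simp [two_mul, pow_add]

theorem card_kernel {v : U m} (hv : v ≠ 0) :
    2 * ((Finset.univ.filter fun u : U m => spB m (ZMod 2) u v = 0).card : ℤ) = 2 ^ (2 * m) := by
  have h : ∀ u : U m, (2 : ℤ) * (if spB m (ZMod 2) u v = 0 then 1 else 0) = 1 + sgn (spB m (ZMod 2) u v) := by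
    intro u; simp only [sgn]; split_ifs <;> norm_num
  rw [Finset.card_filter, Nat.cast_sum, Finset.mul_sum]
  simp only [Nat.cast_ite, Nat.cast_one, Nat.cast_zero, h, Finset.sum_add_distrib, sgn_sum, if_neg hv,
    Finset.sum_const, Finset.card_univ, nsmul_one, add_zero]
  exact card_U

theorem card_kernel_two {v w : U m} (hvw : spB m (ZMod 2) v w = 1) :
    4 * ((Finset.univ.filter fun u : U m => spB m (ZMod 2) u v = 0 ∧ spB m (ZMod 2) u w = 0).card : ℤ) =
      2 ^ (2 * m) := by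
  have hv : v ≠ 0 := fun e => by rw [e, map_zero, LinearMap.zero_apply] at hvw; exact zero_ne_one hvw
  have hw : w ≠ 0 := fun e => by rw [e, map_zero] at hvw; exact zero_ne_one hvw
  have hs : v + w ≠ 0 := fun e => by
    rw [add_eq_zero_iff_eq_neg.1 e, ZModModule.neg_eq_self, (spB_isAlt m (ZMod 2)).self_eq_zero] at hvw; exact zero_ne_one hvw
  have h : ∀ u : U m, (4 : ℤ) * (if spB m (ZMod 2) u v = 0 ∧ spB m (ZMod 2) u w = 0 then 1 else 0) =
      1 + sgn (spB m (ZMod 2) u v) + sgn (spB m (ZMod 2) u w) + sgn (spB m (ZMod 2) u (v + w)) := by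
    intro u
    rw [map_add, sgn_add]
    simp only [sgn]
    split_ifs <;> simp_all
  rw [Finset.card_filter, Nat.cast_sum, Finset.mul_sum]
  simp only [Nat.cast_ite, Nat.cast_one, Nat.cast_zero, h, Finset.sum_add_distrib, sgn_sum, if_neg hv, if_neg hw,
    if_neg hs, Finset.sum_const, Finset.card_univ, nsmul_one, add_zero]
  exact card_U

/-- Squared character sums over a set of non-zero vectors. -/
theorem cauchy (S : Finset (U m)) (hS : (0 : U m) ∉ S) {t : ℤ}
    (ht : ∀ u ∈ S, ∑ z ∈ S, sgn (spB m (ZMod 2) u z) = t) :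
    (S.card : ℤ) ^ 2 + S.card * t ^ 2 ≤ 2 ^ (2 * m) * S.card := by
  classical
  have hpar : ∑ u : U m, (∑ z ∈ S, sgn (spB m (ZMod 2) u z)) ^ 2 = 2 ^ (2 * m) * S.card := by
    simp only [sq, Finset.sum_mul_sum, ← sgn_add, ← map_add]
    rw [Finset.sum_comm]
    have : ∀ z ∈ S, (∑ u : U m, ∑ w ∈ S, sgn (spB m (ZMod 2) u (z + w))) = 2 ^ (2 * m) := by
      intro z hz
      rw [Finset.sum_comm]
      simp only [sgn_sum, add_eq_zero_iff_eq_neg, ZModModule.neg_eq_self]
      rw [Finset.sum_ite_eq S z, if_pos hz]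
    rw [Finset.sum_congr rfl this, Finset.sum_const, nsmul_eq_mul, mul_comm]
  rw [← hpar]
  refine le_trans (le_of_eq ?_) (Finset.sum_le_sum_of_subset_of_nonneg (Finset.subset_univ (insert 0 S))
    fun u _ _ => sq_nonneg _)
  rw [Finset.sum_insert hS, Finset.sum_congr rfl (fun u hu => congrArg (· ^ 2) (ht u hu)), Finset.sum_const,
    nsmul_eq_mul]
  simp [sgn]

variable {G : Type*} [Group G] [Finite G] {D : Set G} {x : G} (C : Chart D x m)

/-- Vectors of a set of neighbours. -/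
noncomputable def Chart.vecs (S : Set G) : Finset (U m) := (C.φ '' S).toFinite.toFinset

theorem Chart.vecs_card {S : Set G} (h : S ⊆ perp D x) : (C.vecs S).card = S.ncard := by
  rw [Chart.vecs, ← Set.ncard_eq_toFinset_card, Set.InjOn.ncard_image (C.inj.mono h)]

theorem Chart.mem_vecs {S : Set G} {u : U m} : u ∈ C.vecs S ↔ ∃ z ∈ S, C.φ z = u := by
  simp [Chart.vecs]

variable (hF : IsFischer D) (hx : x ∈ D)
include C hF hx

theorem Chart.card_perp : ((perp D x).ncard : ℤ) + 1 = 2 ^ (2 * m) := by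
  classical
  rw [← C.vecs_card subset_rfl, ← card_U]
  have e : C.vecs (perp D x) = Finset.univ.erase 0 := by
    ext u
    rw [C.mem_vecs, Finset.mem_erase]
    exact ⟨fun ⟨z, hz, h⟩ => ⟨h ▸ C.ne z hz, Finset.mem_univ u⟩, fun h => C.surj u h.1⟩
  rw [e, ← Finset.card_univ, ← Finset.card_erase_add_one (Finset.mem_univ (0 : U m))]
  push_cast
  ring

theorem Chart.card_inner {y : G} (hy : y ∈ perp D x) :
    2 * ((inner D x y).ncard : ℤ) + 4 = 2 ^ (2 * m) := by
  classical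
  rw [← C.vecs_card (S := inner D x y) Set.inter_subset_left, ← card_kernel (C.ne y hy)]
  have e : C.vecs (inner D x y) =
      ((Finset.univ.filter fun u : U m => spB m (ZMod 2) u (C.φ y) = 0).erase 0).erase (C.φ y) := by
    ext u
    rw [C.mem_vecs, Finset.mem_erase, Finset.mem_erase, Finset.mem_filter]
    constructor
    · rintro ⟨z, hz, rfl⟩
      exact ⟨fun e => hz.2.2.1 (C.inj hz.1 hy e), C.ne z hz.1, Finset.mem_univ _,
        (C.comm z hz.1 y hy).1 hz.2.2.2.symm⟩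
    · rintro ⟨h1, h2, -, h3⟩
      obtain ⟨z, hz, rfl⟩ := C.surj u h2
      exact ⟨z, ⟨hz, hz.1, fun e => h1 (by rw [e]), ((C.comm z hz y hy).2 h3).symm⟩, rfl⟩
  rw [e, ← Finset.card_erase_add_one (a := (0 : U m))
      (s := Finset.univ.filter fun u : U m => spB m (ZMod 2) u (C.φ y) = 0) (by simp),
    ← Finset.card_erase_add_one (a := C.φ y)
      (s := (Finset.univ.filter fun u : U m => spB m (ZMod 2) u (C.φ y) = 0).erase 0)
      (by simp [C.ne y hy, (spB_isAlt m (ZMod 2)).self_eq_zero])]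
  push_cast
  ring

/-- A common neighbour commutes with a quarter of the space inside the common neighbours. -/
theorem Chart.card_trace {e y : G} (he : e ∈ D) (hxe : ¬ Commute x e) (hy : y ∈ common D x e) :
    4 * (((C.vecs (common D x e)).filter fun u => spB m (ZMod 2) u (C.φ y) = 0).card : ℤ) = 2 ^ (2 * m) := by
  classical
  have hye : e ∈ perp D y := ⟨he, fun e' => hxe (e' ▸ hy.1.2.2), hy.2.symm⟩
  obtain ⟨g, hg⟩ := hF.trans y hy.1.1 x hx
  have hyx : x ∈ perp D y := ⟨hx, hy.1.2.1.symm, hy.1.2.2.symm⟩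
  have hx' : g * x * g⁻¹ ∈ perp D x := by
    have := conj_perp hF g y hyx; rwa [hg] at this
  have he' : g * e * g⁻¹ ∈ perp D x := by
    have := conj_perp hF g y hye; rwa [hg] at this
  have hxe' : ¬ Commute (g * x * g⁻¹) (g * e * g⁻¹) := fun h => hxe ((Commute.conj_iff g).1 h)
  have hB : spB m (ZMod 2) (C.φ (g * x * g⁻¹)) (C.φ (g * e * g⁻¹)) = 1 :=
    (two_cases _).resolve_left fun h => hxe' ((C.comm _ hx' _ he').2 h)
  rw [← card_kernel_two hB]
  congr 2
  -- both are one more than the number of members commuting with `x`, `e`, `y`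
  set T := common D x e ∩ perp D y with hT
  have h1 : (C.vecs (common D x e)).filter (fun u => spB m (ZMod 2) u (C.φ y) = 0) = C.vecs (insert y T) := by
    ext u
    rw [Finset.mem_filter, C.mem_vecs, C.mem_vecs]
    constructor
    · rintro ⟨⟨z, hz, rfl⟩, h⟩
      rcases eq_or_ne z y with rfl | hne
      · exact ⟨z, Or.inl rfl, rfl⟩
      · exact ⟨z, Or.inr ⟨hz, hz.1.1, hne, ((C.comm z hz.1 y hy.1).2 h).symm⟩, rfl⟩
    · rintro ⟨z, rfl | hz, rfl⟩
      · exact ⟨⟨z, hy, rfl⟩, (spB_isAlt m (ZMod 2)).self_eq_zero _⟩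
      · exact ⟨⟨z, hz.1, rfl⟩, (C.comm z hz.1.1 y hy.1).1 hz.2.2.2.symm⟩
  have hTimg : (fun z => g * z * g⁻¹) '' T = inner D (g * x * g⁻¹) (g * e * g⁻¹) ∩ perp D x := by
    rw [hT, ← inner_eq_common hxe, inner, inner, perp_image hF g x, perp_image hF g e,
      Set.image_inter (conj_fun_inj hF g), Set.image_inter (conj_fun_inj hF g), ← perp_image hF g y, hg]
  have h2 : (Finset.univ.filter fun u : U m =>
      spB m (ZMod 2) u (C.φ (g * x * g⁻¹)) = 0 ∧ spB m (ZMod 2) u (C.φ (g * e * g⁻¹)) = 0) =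
      insert 0 (C.vecs ((fun z => g * z * g⁻¹) '' T)) := by
    ext u
    rw [Finset.mem_filter, Finset.mem_insert, C.mem_vecs, hTimg]
    constructor
    · rintro ⟨-, h⟩
      rcases eq_or_ne u 0 with hu | hu
      · exact Or.inl hu
      obtain ⟨z, hz, rfl⟩ := C.surj u hu
      refine Or.inr ⟨z, ⟨⟨⟨hz.1, fun e' => ?_, ((C.comm z hz _ hx').2 h.1).symm⟩,
        hz.1, fun e' => ?_, ((C.comm z hz _ he').2 h.2).symm⟩, hz⟩, rfl⟩
      · rw [e', hB] at h; exact zero_ne_one h.2.symm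
      · rw [e', spB_symm, hB] at h; exact zero_ne_one h.1.symm
    · rintro (rfl | ⟨z, ⟨⟨hz1, hz2⟩, hz⟩, rfl⟩)
      · simp
      · exact ⟨Finset.mem_univ _, (C.comm z hz _ hx').1 hz1.2.2.symm, (C.comm z hz _ he').1 hz2.2.2.symm⟩
  rw [h1, h2, C.vecs_card (Set.insert_subset hy.1 fun z hz => hz.1.1),
    Set.ncard_insert_of_notMem (fun h => h.2.2.1 rfl) (Set.toFinite _), Finset.card_insert_of_notMem,
    C.vecs_card (hTimg ▸ Set.inter_subset_right), Set.ncard_image_of_injective _ (conj_fun_inj hF g)]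
  rw [C.mem_vecs]
  rintro ⟨z, hz, h⟩
  exact C.ne z (hTimg ▸ hz).2 h

/-- The indicators add along all lines. -/
theorem Chart.parity (hm : 2 ≤ m) :
    ∀ a ∈ D, ∀ b ∈ D, ¬ Commute a b → ∀ d ∈ D, ind (cj a b) d = ind a d + ind b d := by
  classical
  obtain ⟨e, he, hxe⟩ := exists_not_commute hF hx
  obtain ⟨y, hy⟩ := common_nonempty hF hx he hxe
  refine parity_of_count hF hx he hxe ?_
  set S := C.vecs (common D x e) with hS
  have hSc : S.card = (inner D x e).ncard := by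
    rw [hS, C.vecs_card (fun z hz => hz.1), inner_eq_common hxe]
  obtain ⟨k, rfl⟩ : ∃ k, m = k + 1 := ⟨m - 1, by omega⟩
  have hN : (2 : ℤ) ^ (2 * (k + 1)) = 4 * ((2 : ℤ) ^ k) ^ 2 := by ring
  obtain ⟨t, ht⟩ : ∃ t : ℤ, t = 2 * (2 ^ k) ^ 2 - (S.card : ℤ) := ⟨_, rfl⟩
  have htr : ∀ u ∈ S, 4 * (((S.filter fun z => spB (k + 1) (ZMod 2) z u = 0).card : ℕ) : ℤ) = 2 ^ (2 * (k + 1)) := by
    intro u hu
    rw [hS, C.mem_vecs] at hu
    obtain ⟨z, hz, rfl⟩ := hu
    exact C.card_trace hF hx he hxe hz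
  have hsum : ∀ u ∈ S, ∑ z ∈ S, sgn (spB (k + 1) (ZMod 2) u z) = t := by
    intro u hu
    have h : ∀ z, sgn (spB (k + 1) (ZMod 2) u z) = 2 * (if spB (k + 1) (ZMod 2) z u = 0 then 1 else 0) - 1 := by
      intro z
      rw [spB_symm u z]
      simp only [sgn]
      split_ifs <;> norm_num
    simp only [h, Finset.sum_sub_distrib, ← Finset.mul_sum, Finset.sum_boole, Finset.sum_const, nsmul_one]
    have := htr u hu
    rw [hN] at this
    push_cast
    linarith
  have hpos : 0 < S.card := Finset.card_pos.2 ⟨C.φ y, C.mem_vecs.2 ⟨y, hy, rfl⟩⟩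
  have h0 : (0 : U (k + 1)) ∉ S := by
    rw [hS, C.mem_vecs]
    rintro ⟨z, hz, h⟩
    exact C.ne z hz.1 h
  have hc := cauchy S h0 hsum
  rw [hN] at hc
  have heven : Even (S.card : ℤ) := by
    have h2 : ∀ u ∈ S, ∑ z ∈ S, spB (k + 1) (ZMod 2) z u = (S.card : ZMod 2) := by
      intro u hu
      have he' : ∀ a : ZMod 2, a = 1 + (if a = 0 then 1 else 0) := by decide
      rw [Finset.sum_congr rfl fun z _ => he' (spB (k + 1) (ZMod 2) z u), Finset.sum_add_distrib,
        Finset.sum_boole, Finset.sum_const, nsmul_one]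
      have h := htr u hu
      obtain ⟨j, rfl⟩ : ∃ j, k = j + 1 := ⟨k - 1, by omega⟩
      have h' : ((S.filter fun z => spB (j + 1 + 1) (ZMod 2) z u = 0).card : ℤ) = 2 * (2 * (2 ^ j) ^ 2) := by
        linarith [show (2 : ℤ) ^ (2 * (j + 1 + 1)) = 4 * (2 * (2 * (2 ^ j) ^ 2)) by ring]
      have h'' : (S.filter fun z => spB (j + 1 + 1) (ZMod 2) z u = 0).card = 2 * (2 * (2 ^ j) ^ 2) := by
        exact_mod_cast h'
      rw [h'']
      push_cast
      rw [show (2 : ZMod 2) = 0 from rfl]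
      ring
    have h3 : (S.card : ZMod 2) * S.card = 0 := by
      have := (spB_isAlt (k + 1) (ZMod 2)).self_eq_zero (∑ z ∈ S, z)
      rw [map_sum, Finset.sum_congr rfl fun u _ => ?_, Finset.sum_const, nsmul_eq_mul] at this
      · exact this
      · rw [map_sum, LinearMap.sum_apply]
        exact h2 u ‹_›
    have h4 := mul_self_eq_zero.1 h3
    rw [ZMod.natCast_eq_zero_iff_even] at h4
    exact_mod_cast h4
  have hk' := C.card_perp hF hx
  have hl := C.card_inner hF hx hy.1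
  rw [hN] at hk' hl
  have hcount : ((inner D x e).ncard : ℤ) * (far D x).ncard + (perp D x).ncard * ((inner D x y).ncard + 1) =
      (perp D x).ncard * (perp D x).ncard := by exact_mod_cast count hF hx he hxe hy.1
  have hlow : 2 * ((perp D x).ncard : ℤ) + 2 ≤ (far D x).ncard + 2 * (inner D x e).ncard := by
    exact_mod_cast (far_split hF hx he hxe).1
  rw [← hSc] at hcount hlow
  have hl' : ((inner D x y).ncard : ℤ) + 2 = 2 * ((2 : ℤ) ^ k) ^ 2 := by linarith
  have := arith (k := k) (by omega) (M := 2 ^ k) (μ := (S.card : ℤ)) (l := ((far D x).ncard : ℤ)) (t := t) rfl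
    (by linarith) (by exact_mod_cast hpos)
    (by linear_combination hcount - ((perp D x).ncard : ℤ) * hl' +
      (((perp D x).ncard : ℤ) + 2 * ((2 : ℤ) ^ k) ^ 2) * hk')
    (by linarith)
    (by nlinarith [hc])
    heven
  have h' : ((far D x).ncard : ℤ) + 2 * (inner D x e).ncard = 2 * (perp D x).ncard + 2 := by
    rw [← hSc]; linarith
  exact_mod_cast h'

end Cfsg.Lib.Fischer.Thm.Sp
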