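import Cfsg.Agent.Lib.Fischer.Thm.Main
import Cfsg.Agent.Lib.Fischer.Thm.Sp.Parity
import Cfsg.Agent.Lib.Linear.OrthBasic

/-!
# The class as the non-singular vectors of a quadratic space

Over a symplectic neighbourhood a member `d` is read through its indicators on `x`, on one member `e` away
from `x` and on the neighbours of `x`.
-/

set_option autoImplicit false
set_option linter.unusedSectionVars false

namespace Cfsg.Lib.Fischer.Thm.Sp

open Module Cfsg Cfsg.Lib.Fischer Cfsg.Lib.Fischer.Polar Cfsg.Lib.Fischer.Relations Cfsg.Lib.Linear.Symp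
open Cfsg.Lib.Linear.Orth (Space)

variable {m : ℕ}

/-- The index of the coordinates. -/
abbrev Idx (m : ℕ) : Type := (Fin m ⊕ Fin m) ⊕ Fin 2

/-- A vector from its three parts. -/
def vec (u : U m) (a b : ZMod 2) : Idx m → ZMod 2 := Sum.elim u ![a, b]

/-- The part in the symplectic space. -/
def pU (v : Idx m → ZMod 2) : U m := fun i => v (Sum.inl i)

theorem vec_parts (v : Idx m → ZMod 2) : vec (pU v) (v (.inr 0)) (v (.inr 1)) = v := by
  funext i
  rcases i with i | i
  · rfl
  · fin_cases i <;> rfl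

theorem vec_add (u u' : U m) (a a' b b' : ZMod 2) :
    vec u a b + vec u' a' b' = vec (u + u') (a + a') (b + b') := by
  funext i
  rcases i with i | i
  · rfl
  · fin_cases i <;> rfl

/-- The bilinear form of the sum. -/
noncomputable def sumB (m : ℕ) : LinearMap.BilinForm (ZMod 2) (Idx m → ZMod 2) :=
  LinearMap.mk₂ (ZMod 2) (fun v w => spB m (ZMod 2) (pU v) (pU w) + (v (.inr 0) * w (.inr 1) + v (.inr 1) * w (.inr 0)))
    (fun v v' w => by
      rw [show pU (v + v') = pU v + pU v' from rfl, map_add, LinearMap.add_apply]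
      simp only [Pi.add_apply]; ring)
    (fun c v w => by
      rw [show pU (c • v) = c • pU v from rfl, map_smul, LinearMap.smul_apply]
      simp only [Pi.smul_apply, smul_eq_mul]; ring)
    (fun v w w' => by
      rw [show pU (w + w') = pU w + pU w' from rfl, map_add]
      simp only [Pi.add_apply]; ring)
    (fun c v w => by
      rw [show pU (c • w) = c • pU w from rfl, map_smul]
      simp only [Pi.smul_apply, smul_eq_mul]; ring)

theorem sumB_vec (u u' : U m) (a a' b b' : ZMod 2) :
    sumB m (vec u a b) (vec u' a' b') = spB m (ZMod 2) u u' + (a * b' + b * a') := rfl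

theorem sumB_symm (v w : Idx m → ZMod 2) : sumB m v w = sumB m w v := by
  rw [← vec_parts v, ← vec_parts w, sumB_vec, sumB_vec, spB_symm]
  ring

variable {G : Type*} [Group G] [Finite G] {D : Set G}

/-- A symplectic neighbourhood of `x`, a member `e` away from `x`, and adding indicators. -/
structure Ctx (D : Set G) (x e : G) (m : ℕ) where
  chart : Chart D x m
  fis : IsFischer D
  mem : x ∈ D
  cent : CentralAt G D x
  emem : e ∈ D
  far : ¬ Commute x e
  parity : ∀ a ∈ D, ∀ b ∈ D, ¬ Commute a b → ∀ d ∈ D, ind (cj a b) d = ind a d + ind b d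

variable {x e : G} (K : Ctx D x e m)

namespace Ctx

theorem ind_perp {a b : G} (ha : a ∈ perp D x) (hb : b ∈ perp D x) :
    ind a b = spB m (ZMod 2) (K.chart.φ a) (K.chart.φ b) := by
  by_cases h : Commute a b
  · rw [ind_of_commute h, (K.chart.comm a ha b hb).1 h]
  · rw [ind_of_not h, (two_cases _).resolve_left fun h0 => h ((K.chart.comm a ha b hb).2 h0)]

include K

theorem ind_conj_inv {z : G → ZMod 2} (hz : ∀ s ∈ insert x (perp D x), ∀ d ∈ D, z (cj s d) = z d) {g : G}
    (hg : g ∈ Subgroup.closure (insert x (perp D x))) : ∀ d ∈ D, z (g * d * g⁻¹) = z d := by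
  have hD := K.fis.toTrans
  have hS : ∀ s ∈ insert x (perp D x), s ∈ D := by
    rintro s (rfl | hs); exacts [K.mem, hs.1]
  induction hg using Subgroup.closure_induction'' with
  | mem s hs => intro d hd; rw [← cj_conj hD (hS s hs)]; exact hz s hs d hd
  | inv_mem s hs => intro d hd; rw [inv_eq hD (hS s hs), ← cj_conj hD (hS s hs)]; exact hz s hs d hd
  | one => intro d _; simp
  | mul u v _ _ hu hv =>
    intro d hd
    rw [← hv d hd, ← hu _ (hD.conj v d hd)]
    congr 1
    group

/-- The relation of two commuting neighbours with the third of their line. -/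
theorem thick {r r' w : G} (hr : r ∈ perp D x) (hr' : r' ∈ perp D x) (hw : w ∈ perp D x) (hne : r ≠ r')
    (hc : Commute r r') (hs : K.chart.φ w = K.chart.φ r + K.chart.φ r') {d : G} (hd : d ∈ D) :
    ind x d + ind r d + ind r' d + ind w d = 0 := by
  have hD := K.fis.toTrans
  obtain ⟨z, hz⟩ : ∃ z : G → ZMod 2, ∀ d, z d = ind x d + ind r d + ind r' d + ind w d := ⟨_, fun _ => rfl⟩
  rw [← hz]
  have hperp : ∀ s ∈ perp D x, z s = 0 := fun s hs' => by
    rw [hz, ind_of_commute hs'.2.2, K.ind_perp hr hs', K.ind_perp hr' hs', K.ind_perp hw hs', hs, map_add,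
      LinearMap.add_apply, zero_add, CharTwo.add_self_eq_zero]
  have hx0 : z x = 0 := by
    rw [hz, ind_of_commute (Commute.refl x), ind_of_commute hr.2.2.symm, ind_of_commute hr'.2.2.symm,
      ind_of_commute hw.2.2.symm, add_zero, add_zero, add_zero]
  have hinv : ∀ s ∈ insert x (perp D x), ∀ d ∈ D, z (cj s d) = z d := by
    intro s hs d hd
    have hsD : s ∈ D := by rcases hs with rfl | hs; exacts [K.mem, hs.1]
    by_cases hsd : Commute s d
    · rw [cj_of_commute hD hsD hsd]
    have hp : ∀ a ∈ D, ind a (cj s d) = ind a s + ind a d := fun a ha => by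
      rw [ind_comm, K.parity s hsD d hd hsd a ha, ind_comm s a, ind_comm d a]
    have hs0 : z s = 0 := by rcases hs with rfl | hs; exacts [hx0, hperp s hs]
    rw [hz] at hs0
    rw [hz, hz, hp x K.mem, hp r hr.1, hp r' hr'.1, hp w hw.1]
    linear_combination hs0
  have hconst : ∀ d ∈ D, ¬ Commute x d → z d = z e := fun d hd hxd => by
    obtain ⟨g, hg, rfl⟩ := orb_all K.fis K.mem K.emem hd K.far hxd
    exact K.ind_conj_inv hinv hg e K.emem
  rcases two_cases (z e) with h0 | h1
  · by_cases hxd : Commute x d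
    · rcases eq_or_ne d x with rfl | hne'
      · exact hx0
      · exact hperp d ⟨hd, hne', hxd⟩
    · rw [hconst d hd hxd, h0]
  -- otherwise `r`, `r'`, `w` would be a line of a polar space
  exfalso
  have hall : ∀ d ∈ D, ind r d + ind r' d + ind w d = 0 := fun d hd => by
    have key : z d + ind x d = 0 := by
      by_cases hxd : Commute x d
      · rw [ind_of_commute hxd, add_zero]
        rcases eq_or_ne d x with rfl | hne'
        · exact hx0
        · exact hperp d ⟨hd, hne', hxd⟩
      · rw [hconst d hd hxd, h1, ind_of_not hxd, CharTwo.add_self_eq_zero]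
    rw [hz] at key
    linear_combination key - CharTwo.add_self_eq_zero (ind x d)
  have hne2 : K.chart.φ r ≠ K.chart.φ r' := fun h => hne (K.chart.inj hr hr' h)
  have hwr : w ≠ r := fun h => K.chart.ne r' hr' (by
    rw [h] at hs; exact left_eq_add.1 hs)
  have hwr' : w ≠ r' := fun h => K.chart.ne r hr (by
    rw [h] at hs; exact right_eq_add.1 hs)
  have hrw : Commute r w := by
    rw [K.chart.comm r hr w hw, hs, map_add, (spB_isAlt m (ZMod 2)).self_eq_zero,
      (K.chart.comm r hr r' hr').1 hc, add_zero]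
  have hr'r : r' ∈ perp D r := ⟨hr'.1, hne.symm, hc⟩
  have hwr'' : w ∈ perp D r := ⟨hw.1, hwr, hrw⟩
  have hFr := isFischer_loc K.fis hr.1 (centralAt_conj K.fis K.mem hr.1 K.cent)
  have hsame : bar hr'r = bar hwr'' := by
    refine eq_of_commute_iff hFr (bar_mem _) (bar_mem _) fun v hv => ?_
    obtain ⟨d, hd, rfl⟩ := exists_bar hv
    rw [bar_commute hD (fun _ h => h.1) hr'r hd, bar_commute hD (fun _ h => h.1) hwr'' hd, ← ind_zero_iff,
      ← ind_zero_iff]
    have h := hall d hd.1
    rw [ind_of_commute hd.2.2, zero_add, CharTwo.add_eq_zero] at h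
    rw [h]
  exact hwr' (bar_inj hD (S := perp D r) (fun _ h => h.1) (fun a ha =>
    exists_perp_noncommute hD (fun a ha b hb h => eq_of_commute_iff K.fis (a := a) (b := b) ha hb h) hr.1 ha)
    hr'r hwr'' hsame).symm

omit K in
open scoped Classical in
/-- The indicator of `d` on the neighbour with vector `u`. -/
noncomputable def g (K : Ctx D x e m) (d : G) (u : U m) : ZMod 2 :=
  if h : u = 0 then 0 else ind d (K.chart.surj u h).choose

theorem g_zero (d : G) : K.g d 0 = 0 := dif_pos rfl

theorem g_eq (d : G) {y : G} (hy : y ∈ perp D x) : K.g d (K.chart.φ y) = ind d y := by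
  rw [g, dif_neg (K.chart.ne y hy)]
  obtain ⟨h1, h2⟩ := (K.chart.surj _ (K.chart.ne y hy)).choose_spec
  rw [K.chart.inj h1 hy h2]

theorem g_add {d : G} (hd : d ∈ D) {u v : U m} (hu : u ≠ 0) (hv : v ≠ 0) (hne : u ≠ v) :
    K.g d (u + v) = K.g d u + K.g d v + ind d x * (1 + spB m (ZMod 2) u v) := by
  obtain ⟨r, hr, rfl⟩ := K.chart.surj u hu
  obtain ⟨r', hr', rfl⟩ := K.chart.surj v hv
  have hrr : r ≠ r' := fun h => hne (by rw [h])
  by_cases hc : Commute r r'
  · obtain ⟨w, hw, hs⟩ := K.chart.surj (K.chart.φ r + K.chart.φ r') (fun h => hne (by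
      rw [add_eq_zero_iff_eq_neg.1 h, ZModModule.neg_eq_self]))
    rw [← hs, K.g_eq d hw, K.g_eq d hr, K.g_eq d hr', (K.chart.comm r hr r' hr').1 hc, add_zero, mul_one]
    have h := K.thick hr hr' hw hrr hc hs hd
    rw [ind_comm x d, ind_comm r d, ind_comm r' d, ind_comm w d] at h
    have e' : ∀ a b c w : ZMod 2, a + b + c + w = 0 → w = b + c + a := by decide
    exact e' _ _ _ _ h
  · have hcj : cj r r' ∈ perp D x := (cj_mem_perp K.fis.toTrans K.mem (Set.mem_insert_of_mem _ hr) hr').1
    rw [← K.chart.add r hr r' hr' hc, K.g_eq d hcj, K.g_eq d hr, K.g_eq d hr',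
      (two_cases _).resolve_left fun h0 => hc ((K.chart.comm r hr r' hr').2 h0), CharTwo.add_self_eq_zero, mul_zero,
      add_zero, ind_comm d, K.parity r hr.1 r' hr'.1 hc d hd, ind_comm r, ind_comm r']

omit K in
open scoped Classical in
/-- The quadratic form on the symplectic space. -/
noncomputable def q (K : Ctx D x e m) (u : U m) : ZMod 2 := if u = 0 then 0 else 1 + K.g e u

theorem q_add (u v : U m) : K.q (u + v) = K.q u + K.q v + spB m (ZMod 2) u v := by
  rcases eq_or_ne u 0 with rfl | hu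
  · simp [q]
  rcases eq_or_ne v 0 with rfl | hv
  · simp [q]
  rcases eq_or_ne u v with rfl | hne
  · rw [ZModModule.add_self u, (spB_isAlt m (ZMod 2)).self_eq_zero, add_zero, CharTwo.add_self_eq_zero, q, if_pos rfl]
  have hs : u + v ≠ 0 := fun h => hne (by rw [add_eq_zero_iff_eq_neg.1 h, ZModModule.neg_eq_self])
  rw [q, q, q, if_neg hs, if_neg hu, if_neg hv, K.g_add K.emem hu hv hne, ind_comm e x, ind_of_not K.far]
  have e' : ∀ a b c : ZMod 2, 1 + (a + b + 1 * (1 + c)) = 1 + a + (1 + b) + c := by decide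
  exact e' _ _ _

theorem exists_part {d : G} (hd : d ∈ D) :
    ∃ u : U m, ∀ v, spB m (ZMod 2) u v = K.g d v + ind d x * K.g e v := by
  have hadd : ∀ u v, K.g d (u + v) + ind d x * K.g e (u + v) =
      K.g d u + ind d x * K.g e u + (K.g d v + ind d x * K.g e v) := by
    intro u v
    rcases eq_or_ne u 0 with rfl | hu
    · simp [K.g_zero]
    rcases eq_or_ne v 0 with rfl | hv
    · simp [K.g_zero]
    rcases eq_or_ne u v with rfl | hne
    · rw [ZModModule.add_self u, K.g_zero, K.g_zero, CharTwo.add_self_eq_zero, mul_zero, add_zero]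
    rw [K.g_add hd hu hv hne, K.g_add K.emem hu hv hne, ind_comm e x, ind_of_not K.far]
    have e' : ∀ a b c a' b' i : ZMod 2,
        a + b + i * (1 + c) + i * (a' + b' + 1 * (1 + c)) = a + i * a' + (b + i * b') := by decide
    exact e' _ _ _ _ _ _
  let f : Module.Dual (ZMod 2) (U m) :=
    { toFun := fun v => K.g d v + ind d x * K.g e v
      map_add' := hadd
      map_smul' := fun c v => by
        rcases two_cases c with rfl | rfl
        · simp [K.g_zero]
        · simp }
  refine ⟨(LinearMap.BilinForm.toDual (spB m (ZMod 2)) (spB_nondegenerate m (ZMod 2))).symm f, fun v => ?_⟩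
  rw [LinearMap.BilinForm.apply_toDual_symm_apply]
  rfl

omit K in
open scoped Classical in
/-- The vector of a member. -/
noncomputable def ψ (K : Ctx D x e m) (d : G) : Idx m → ZMod 2 :=
  vec (if hd : d ∈ D then (K.exists_part hd).choose else 0) (ind d e) (ind d x)

omit K in
/-- The quadratic form. -/
noncomputable def Q (K : Ctx D x e m) (v : Idx m → ZMod 2) : ZMod 2 :=
  K.q (pU v) + (v (.inr 0) + v (.inr 1) + v (.inr 0) * v (.inr 1))

theorem Q_vec (u : U m) (a b : ZMod 2) : K.Q (vec u a b) = K.q u + (a + b + a * b) := rfl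

theorem Q_add (v w : Idx m → ZMod 2) : K.Q (v + w) = K.Q v + K.Q w + sumB m v w := by
  rw [← vec_parts v, ← vec_parts w, vec_add, K.Q_vec, K.Q_vec, K.Q_vec, K.q_add, sumB_vec]
  ring

theorem space : Space K.Q (sumB m) := by
  refine ⟨fun c v => ?_, fun u v => ?_, fun v hv => ?_⟩
  · rcases two_cases c with rfl | rfl
    · rw [zero_smul]; simp [Q, q]; exact fun h => absurd rfl h
    · simp
  · rw [QuadraticMap.polar, K.Q_add]; ring
  · rw [← vec_parts v] at hv ⊢
    have h0 := hv (vec 0 1 0)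
    have h1 := hv (vec 0 0 1)
    rw [sumB_vec, map_zero, LinearMap.zero_apply] at h0 h1
    simp only [one_mul, zero_mul, zero_add, add_zero] at h0 h1
    have hu : pU v = 0 := (spB_nondegenerate m (ZMod 2)).1 _ fun u => by
      have := hv (vec u 0 0)
      rw [sumB_vec, spB_symm] at this
      simpa using this
    rw [hu, h0, h1]
    funext i
    rcases i with i | i
    · rfl
    · fin_cases i <;> rfl

theorem test_ψ {d : G} (hd : d ∈ D) {y : G} (hy : y ∈ perp D x) (a : ZMod 2) :
    sumB m (K.ψ d) (vec (K.chart.φ y) a 0) = ind d y + ind d x * (ind e y + a) := by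
  rw [ψ, dif_pos hd, sumB_vec, (K.exists_part hd).choose_spec, K.g_eq d hy, K.g_eq e hy]
  ring

theorem ψ_eq_iff {d : G} (hd : d ∈ D) {u : U m} {a b : ZMod 2} (ha : ind d e = a) (hb : ind d x = b)
    (hu : ∀ y ∈ perp D x, ind d y = spB m (ZMod 2) u (K.chart.φ y) + b * ind e y) : K.ψ d = vec u a b := by
  subst ha hb
  rw [ψ, dif_pos hd]
  congr 1
  refine sub_eq_zero.1 ((spB_nondegenerate m (ZMod 2)).1 _ fun v => ?_)
  rcases eq_or_ne v 0 with rfl | hv
  · rw [map_zero]
  obtain ⟨y, hy, rfl⟩ := K.chart.surj v hv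
  rw [map_sub, LinearMap.sub_apply, (K.exists_part hd).choose_spec, K.g_eq d hy, K.g_eq e hy, hu y hy,
    add_assoc, CharTwo.add_self_eq_zero, add_zero, sub_self]

theorem ψ_x : K.ψ x = vec 0 1 0 :=
  K.ψ_eq_iff K.mem (ind_of_not K.far) (ind_of_commute (Commute.refl x)) fun y hy => by
    rw [ind_of_commute hy.2.2, map_zero, LinearMap.zero_apply]; ring

theorem ψ_e : K.ψ e = vec 0 0 1 :=
  K.ψ_eq_iff K.emem (ind_of_commute (Commute.refl e)) (by rw [ind_comm, ind_of_not K.far]) fun y hy => by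
    rw [map_zero, LinearMap.zero_apply]; ring

theorem ψ_perp {y : G} (hy : y ∈ perp D x) : K.ψ y = vec (K.chart.φ y) (ind y e) 0 :=
  K.ψ_eq_iff hy.1 rfl (ind_of_commute hy.2.2.symm) fun z hz => by
    rw [K.ind_perp hy hz]; ring

theorem ψ_add {a b : G} (ha : a ∈ D) (hb : b ∈ D) (h : ¬ Commute a b) : K.ψ (cj a b) = K.ψ a + K.ψ b := by
  have hp := K.parity a ha b hb h
  conv_rhs => rw [ψ, ψ, dif_pos ha, dif_pos hb, vec_add]
  refine K.ψ_eq_iff (cj_mem K.fis.toTrans ha hb) (hp e K.emem) (hp x K.mem) fun y hy => ?_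
  rw [hp y hy.1, map_add, LinearMap.add_apply, (K.exists_part ha).choose_spec, (K.exists_part hb).choose_spec,
    K.g_eq a hy, K.g_eq b hy, K.g_eq e hy]
  linear_combination -(ind a x + ind b x) * CharTwo.add_self_eq_zero (ind e y)

/-- The properties carried from the members at `x` and `e` to all members. -/
theorem everywhere {p : G → Prop} (h0 : p x) (he : p e) (hy : ∀ y ∈ perp D x, p y)
    (hadd : ∀ a ∈ D, ∀ b ∈ D, ¬ Commute a b → p a → p b → p (cj a b)) : ∀ d ∈ D, p d := by
  have hD := K.fis.toTrans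
  intro d hd
  by_cases hxd : Commute x d
  · rcases eq_or_ne d x with rfl | hne
    · exact h0
    · exact hy d ⟨hd, hne, hxd⟩
  obtain ⟨g, hg, rfl⟩ := orb_all K.fis K.mem K.emem hd K.far hxd
  have hS : ∀ s ∈ insert x (perp D x), s ∈ D ∧ p s := by
    rintro s (rfl | hs); exacts [⟨K.mem, h0⟩, ⟨hs.1, hy s hs⟩]
  have key : ∀ g ∈ Subgroup.closure (insert x (perp D x)), ∀ b ∈ D, p b → p (g * b * g⁻¹) := by
    intro g hg
    have hgen : ∀ s ∈ insert x (perp D x), ∀ b ∈ D, p b → p (cj s b) := fun s hs b hb hpb => by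
      by_cases h : Commute s b
      · rwa [cj_of_commute hD (hS s hs).1 h]
      · exact hadd s (hS s hs).1 b hb h (hS s hs).2 hpb
    induction hg using Subgroup.closure_induction'' with
    | mem s hs => intro b hb hpb; rw [← cj_conj hD (hS s hs).1]; exact hgen s hs b hb hpb
    | inv_mem s hs =>
      intro b hb hpb; rw [inv_eq hD (hS s hs).1, ← cj_conj hD (hS s hs).1]; exact hgen s hs b hb hpb
    | one => intro b _ hpb; simpa using hpb
    | mul u v _ _ hu hv =>
      intro b hb hpb
      rw [show u * v * b * (u * v)⁻¹ = u * (v * b * v⁻¹) * u⁻¹ by group]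
      exact hu _ (hD.conj v b hb) (hv b hb hpb)
  exact key g hg e K.emem he

theorem Q_ψ {d : G} (hd : d ∈ D) : K.Q (K.ψ d) = 1 := by
  have hB : ∀ d ∈ D, ∀ d' ∈ D, sumB m (K.ψ d) (K.ψ d') = ind d d' := fun d hd => by
    refine K.everywhere ?_ ?_ ?_ ?_
    · rw [K.ψ_x, ψ, dif_pos hd, sumB_vec, map_zero]; ring
    · rw [K.ψ_e, ψ, dif_pos hd, sumB_vec, map_zero]; ring
    · intro y hy
      rw [K.ψ_perp hy, K.test_ψ hd hy, ind_comm y e, CharTwo.add_self_eq_zero, mul_zero, add_zero]
    · intro a ha b hb h ha' hb'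
      rw [K.ψ_add ha hb h, map_add, ha', hb', ind_comm d (cj a b), K.parity a ha b hb h d hd, ind_comm a,
        ind_comm b]
  revert d hd
  suffices H : ∀ d ∈ D, K.Q (K.ψ d) = 1 from fun {d} hd => H d hd
  refine K.everywhere ?_ ?_ ?_ ?_
  · rw [K.ψ_x, K.Q_vec, q, if_pos rfl]; rfl
  · rw [K.ψ_e, K.Q_vec, q, if_pos rfl]; rfl
  · intro y hy
    rw [K.ψ_perp hy, K.Q_vec, q, if_neg (K.chart.ne y hy), K.g_eq e hy, ind_comm y e, mul_zero, add_zero,
      add_zero, add_assoc, CharTwo.add_self_eq_zero, add_zero]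
  · intro a ha b hb h ha' hb'
    rw [K.ψ_add ha hb h, K.Q_add, ha', hb', hB a ha b hb, ind_of_not h]
    rfl

theorem ψ_inj {a b : G} (ha : a ∈ D) (hb : b ∈ D) (h : K.ψ a = K.ψ b) : a = b := by
  refine eq_of_commute_iff K.fis ha hb fun d hd => ?_
  rw [← ind_zero_iff, ← ind_zero_iff]
  suffices H : ∀ d ∈ D, ind a d = ind b d by rw [H d hd]
  refine K.everywhere ?_ ?_ ?_ ?_
  · exact congrFun h (.inr 1)
  · exact congrFun h (.inr 0)
  · intro y hy
    have h1 := K.test_ψ ha hy (ind e y)
    rw [h, K.test_ψ hb hy, CharTwo.add_self_eq_zero, mul_zero, add_zero, mul_zero, add_zero] at h1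
    exact h1.symm
  · intro c hc d hd hcd h1 h2
    rw [ind_comm, K.parity c hc d hd hcd a ha, ind_comm b, K.parity c hc d hd hcd b hb, ind_comm c a, ind_comm d a,
      h1, h2, ind_comm c b, ind_comm d b]

theorem ψ_surj {v : Idx m → ZMod 2} (hv : K.Q v = 1) : ∃ d ∈ D, K.ψ d = v := by
  have hD := K.fis.toTrans
  rw [← vec_parts v] at hv ⊢
  generalize pU v = u at hv ⊢
  generalize v (.inr 0) = a at hv ⊢
  generalize v (.inr 1) = b at hv ⊢
  rw [K.Q_vec] at hv
  have hce : K.ψ (cj x e) = vec 0 1 1 := by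
    rw [K.ψ_add K.mem K.emem K.far, K.ψ_x, K.ψ_e, vec_add]; simp
  rcases eq_or_ne u 0 with rfl | hu
  · rw [q, if_pos rfl] at hv
    rcases two_cases a with rfl | rfl <;> rcases two_cases b with rfl | rfl
    · exact absurd hv (by decide)
    · exact ⟨e, K.emem, K.ψ_e⟩
    · exact ⟨x, K.mem, K.ψ_x⟩
    · exact ⟨_, cj_mem hD K.mem K.emem, hce⟩
  obtain ⟨y, hy, rfl⟩ := K.chart.surj u hu
  rw [q, if_neg hu, K.g_eq e hy] at hv
  rcases two_cases b with rfl | rfl
  · refine ⟨y, hy.1, ?_⟩
    rw [K.ψ_perp hy, ind_comm y e]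
    congr 1
    have e' : ∀ a i : ZMod 2, 1 + i + (a + 0 + a * 0) = 1 → i = a := by decide
    exact e' _ _ hv
  · have e' : ∀ a i : ZMod 2, 1 + i + (a + 1 + a * 1) = 1 → i = 1 := by decide
    have hey : ¬ Commute y e := fun h => by
      have := e' _ _ hv
      rw [ind_comm, ind_of_commute h] at this
      exact zero_ne_one this
    have hw : K.ψ (cj y e) = vec (K.chart.φ y) 1 1 := by
      rw [K.ψ_add hy.1 K.emem hey, K.ψ_perp hy, K.ψ_e, ind_of_not hey, vec_add]; simp
    have hwD := cj_mem hD hy.1 K.emem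
    rcases two_cases a with rfl | rfl
    · refine ⟨_, cj_mem hD K.mem hwD, ?_⟩
      rw [K.ψ_add K.mem hwD fun h => K.far ((commute_cj_of hD hy.1 hy.2.2.symm).1 h), hw, K.ψ_x, vec_add, zero_add,
        zero_add, CharTwo.add_self_eq_zero]
    · exact ⟨_, hwD, hw⟩

/-- The members span. -/
theorem ψ_span {W : Type*} [AddCommGroup W] [Module (ZMod 2) W] {A A' : (Idx m → ZMod 2) →ₗ[ZMod 2] W}
    (h : ∀ d ∈ D, A (K.ψ d) = A' (K.ψ d)) : A = A' := by
  have h0 : ∀ a : ZMod 2, A (vec 0 a 0) = A' (vec 0 a 0) := fun a => by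
    rcases two_cases a with rfl | rfl
    · have : vec (0 : U m) 0 0 = 0 := by
        funext i; rcases i with i | i
        · rfl
        · fin_cases i <;> rfl
      rw [this, map_zero, map_zero]
    · rw [← K.ψ_x]; exact h x K.mem
  refine LinearMap.ext fun v => ?_
  rw [← vec_parts v]
  generalize pU v = u
  generalize v (.inr 0) = a
  generalize v (.inr 1) = b
  have hb : A (vec 0 0 b) = A' (vec 0 0 b) := by
    rcases two_cases b with rfl | rfl
    · exact h0 0
    · rw [← K.ψ_e]; exact h e K.emem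
  rcases eq_or_ne u 0 with rfl | hu
  · rw [show vec (0 : U m) a b = vec 0 a 0 + vec 0 0 b by rw [vec_add, zero_add, add_zero, zero_add], map_add,
      map_add, h0, hb]
  obtain ⟨y, hy, rfl⟩ := K.chart.surj u hu
  rw [show vec (K.chart.φ y) a b = vec (K.chart.φ y) (ind y e) 0 + vec 0 (ind y e + a) 0 + vec 0 0 b by
    rw [vec_add, vec_add, add_zero, add_zero, ← add_assoc, CharTwo.add_self_eq_zero, zero_add, add_zero, zero_add,
      zero_add], map_add, map_add, map_add, map_add, h0, hb, ← K.ψ_perp hy, h y hy.1]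

end Ctx

end Cfsg.Lib.Fischer.Thm.Sp
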