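import Cfsg.Agent.Lib.Fischer.Thm.Steps
import Cfsg.Agent.Lib.Fischer.Thm.Points
import Cfsg.Agent.Lib.Fischer.Thm.Sp.Quad
import Cfsg.Agent.Lib.Linear.NondegFix.Types

/-!
# A symplectic neighbourhood gives an orthogonal group over two elements
-/

set_option autoImplicit false
set_option linter.unusedSectionVars false

namespace Cfsg.Lib.Fischer.Thm.Sp

open Module Cfsg Cfsg.Lib.Fischer Cfsg.Lib.Fischer.Polar Cfsg.Lib.Linear.Orth
open Cfsg.Agent.Lib.Linear.PrimeClasses
open scoped Matrix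

variable {G : Type*} [Group G] [Finite G] {D : Set G} {x e : G} {m : ℕ}

theorem Ctx.sumB_ψ (K : Ctx D x e m) {a b : G} (ha : a ∈ D) (hb : b ∈ D) :
    sumB m (K.ψ a) (K.ψ b) = ind a b := by
  revert b
  suffices H : ∀ b ∈ D, sumB m (K.ψ a) (K.ψ b) = ind a b from fun {b} hb => H b hb
  refine K.everywhere ?_ ?_ ?_ ?_
  · rw [K.ψ_x, Ctx.ψ, dif_pos ha, sumB_vec, map_zero]; ring
  · rw [K.ψ_e, Ctx.ψ, dif_pos ha, sumB_vec, map_zero]; ring
  · intro y hy
    rw [K.ψ_perp hy, K.test_ψ ha hy, ind_comm y e, CharTwo.add_self_eq_zero, mul_zero, add_zero]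
  · intro c hc d hd h h1 h2
    rw [K.ψ_add hc hd h, map_add, h1, h2, ind_comm a (cj c d), K.parity c hc d hd h a ha, ind_comm c, ind_comm d]

/-- Transport to a standard space. -/
theorem Ctx.iso_std (K : Ctx D x e m) {κ : Type} [Fintype κ] [DecidableEq κ] {R : (κ → ZMod 2) → ZMod 2}
    {B : LinearMap.BilinForm (ZMod 2) (κ → ZMod 2)} (CR : Space R B) (h5 : 5 ≤ Fintype.card κ)
    (hκ : Fintype.card κ = Fintype.card (Idx m)) (h : Embeds R K.Q) :
    ∃ f : G ≃* ↥(isometryGroup (ZMod 2) R),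
      f '' D = {g : ↥(isometryGroup (ZMod 2) R) | (((g : GL κ (ZMod 2)) : Matrix κ κ (ZMod 2)) - 1).rank = 1} := by
  obtain ⟨E, hE⟩ := h
  have hinj := Cfsg.Lib.Linear.NondegFix.embed_injective K.space CR hE
  have hfin : finrank (ZMod 2) (κ → ZMod 2) = finrank (ZMod 2) (Idx m → ZMod 2) := by
    rw [finrank_fintype_fun_eq_card, finrank_fintype_fun_eq_card, hκ]
  let L := LinearEquiv.ofBijective E ⟨hinj, (LinearMap.injective_iff_surjective_of_finrank_eq_finrank hfin).1 hinj⟩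
  have hR : ∀ v, R (L.symm v) = K.Q v := fun v => by
    rw [← hE]; exact congrArg K.Q (L.apply_symm_apply v)
  have hB : ∀ u v, B (L.symm u) (L.symm v) = sumB m u v := fun u v => by
    rw [← CR.polar, ← K.space.polar, QuadraticMap.polar, QuadraticMap.polar, ← map_add, hR, hR, hR]
  refine iso_of_points K.fis CR h5 (fun d => L.symm (K.ψ d)) ?_ ?_ ?_ ?_ ?_ ?_
  · exact fun a ha b hb h => K.ψ_inj ha hb (L.symm.injective h)
  · exact fun d hd => (hR _).trans (K.Q_ψ hd)
  · intro v hv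
    obtain ⟨d, hd, he⟩ := K.ψ_surj (v := L v) (by rw [← hR, L.symm_apply_apply, hv])
    exact ⟨d, hd, by simp [he]⟩
  · intro a ha b hb hab
    simp only [K.ψ_add ha hb hab, map_add]
  · exact fun a ha b hb => (hB _ _).trans (K.sumB_ψ ha hb)
  · intro A A' h
    have := K.ψ_span (A := (Matrix.mulVecLin A.val).comp L.symm.toLinearMap)
      (A' := (Matrix.mulVecLin A'.val).comp L.symm.toLinearMap) h
    exact gl_ext fun v => by simpa using LinearMap.congr_fun this (L v)

universe u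

/-- The step. -/
theorem spStep : SpStep.{u} := by
  intro G _ _ D hF x hx hc m hm h
  obtain ⟨C⟩ := exists_chart hF hx h
  obtain ⟨e, he, hxe⟩ := exists_not_commute hF hx
  let K : Ctx D x e m := ⟨C, hF, hx, hc, he, hxe, C.parity hF hx hm⟩
  have hcard : Fintype.card (Idx m) = 2 * (m + 1) := by simp; omega
  rcases Cfsg.Agent.Lib.Linear.PrimeClasses.classify K.space (k := m + 1) (by omega) hcard with ⟨-, h'⟩ | ⟨ζ, hζ, -, h'⟩
  · obtain ⟨B, CR⟩ := exists_space_plus (F := ZMod 2) (m + 1)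
    exact Or.inl (K.iso_std CR (by simp; omega) (by simp; omega) h')
  · obtain rfl : ζ = 1 := (two_cases ζ).resolve_left fun h0 => by
      subst h0
      exact one_ne_zero (hζ 0 1 (by ring)).2
    obtain ⟨B, CR⟩ := exists_space_minus (F := ZMod 2) m 1 1 hζ
    exact Or.inr (K.iso_std CR (by simp; omega) (by simp) h')

end Cfsg.Lib.Fischer.Thm.Sp
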